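import Groth.Agent.H10Coh.TwistExact
import Groth.Agent.H11Ample.Global
import Groth.Prelude.Def_FlatMod2

/-!
# The kernel of the evaluation of generating sections, twisted once, is globally generated
-/

set_option autoImplicit false

noncomputable section

universe u

open CategoryTheory CategoryTheory.Limits AlgebraicGeometry Opposite TopologicalSpace
open Groth.Agent.H11Tilde Groth.Agent.H11Ample Groth.Agent.H10Coh

namespace Groth.Agent.H11KerGG

variable {X : Scheme.{u}} {L : X.Modules} {n : ℕ} (s : Fin n → (Coh.structureModule X ⟶ L))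

/-- The projections of the free module. -/
def proj (i : Fin n) : FlatMod.freeMod X n ⟶ Coh.structureModule X :=
  Sigma.desc fun j => if j = i then 𝟙 _ else 0

theorem total : ∑ i, proj (X := X) i ≫ Sigma.ι (fun _ : Fin n => Coh.structureModule X) i = 𝟙 _ := by
  refine Sigma.hom_ext _ _ fun j => ?_
  simp [Preadditive.comp_sum, proj, ite_comp]

/-- The basis sections. -/
def eps (i : Fin n) (V : X.Opens) : Γ(FlatMod.freeMod X n, V) :=
  (Sigma.ι (fun _ : Fin n => Coh.structureModule X) i).app V (one V)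

theorem smul_inj {V : X.Opens} {e : Γ(L, V)} (he : IsGen L e) {a : Γ(X, V)} (h : a • e = 0) : a = 0 :=
  (he.bijective le_rfl).1 (show a • L.presheaf.map (homOfLE le_rfl).op e = (0 : Γ(X, V)) • _ by
    rw [mres_self, h, zero_smul])

/-- The given sections. -/
def sig (i : Fin n) (V : X.Opens) : Γ(L, V) := (s i).app V (one V)

theorem app_eq_smul {M : X.Modules} (φ : Coh.structureModule X ⟶ M) (V : X.Opens) (r : Γ(Coh.structureModule X, V)) :
    φ.app V r = (show Γ(X, V) from r) • φ.app V (one V) := by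
  rw [← φ.app_smul]
  refine congrArg (φ.app V) ?_
  show (show Γ(X, V) from r) = (show Γ(X, V) from r) * 1
  rw [mul_one]

theorem res_one {U V : X.Opens} (h : V ≤ U) :
    (Coh.structureModule X).presheaf.map (homOfLE h).op (one U) = one V :=
  map_one (X.presheaf.map (homOfLE h).op).hom

theorem eps_res (i : Fin n) {U V : X.Opens} (h : V ≤ U) :
    (FlatMod.freeMod X n).presheaf.map (homOfLE h).op (eps i U) = eps i V := by
  rw [eps, ← app_map_apply, res_one]; rfl

theorem sig_res (i : Fin n) {U V : X.Opens} (h : V ≤ U) :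
    L.presheaf.map (homOfLE h).op (sig s i U) = sig s i V := by
  rw [sig, ← app_map_apply, res_one]; rfl

theorem exists_coords (V : X.Opens) (a : Γ(FlatMod.freeMod X n, V)) :
    ∃ c : Fin n → Γ(X, V), a = ∑ i, c i • eps i V ∧
      (Sigma.desc s : FlatMod.freeMod X n ⟶ L).app V a = ∑ i, c i • sig s i V := by
  have ha : a = ∑ i, (proj i ≫ Sigma.ι (fun _ : Fin n => Coh.structureModule X) i).app V a := by
    rw [← app_sum_apply, total]
    rfl
  refine ⟨fun i => (proj i).app V a, ha.trans (Finset.sum_congr rfl fun i _ => ?_), ?_⟩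
  · exact app_eq_smul (Sigma.ι (fun _ : Fin n => Coh.structureModule X) i) V _
  · conv_lhs => rw [ha, map_sum]
    refine Finset.sum_congr rfl fun i _ => ?_
    show (Sigma.ι (fun _ : Fin n => Coh.structureModule X) i ≫ Sigma.desc s).app V ((proj i).app V a) = _
    rw [Sigma.ι_desc]
    exact app_eq_smul (s i) V _

/-- The syzygy between two of the sections. -/
def syz (i j : Fin n) (V : X.Opens) : Γ(CohB1.tensorMod (FlatMod.freeMod X n) L, V) :=
  tm (eps i V) (sig s j V) - tm (eps j V) (sig s i V)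

theorem syz_res (i j : Fin n) {U V : X.Opens} (h : V ≤ U) :
    (CohB1.tensorMod (FlatMod.freeMod X n) L).presheaf.map (homOfLE h).op (syz s i j U) = syz s i j V := by
  rw [syz, map_sub, tm_res, tm_res, eps_res, eps_res, sig_res, sig_res]; rfl

theorem result (hL : PicF.IsInvertible L) [hs : Epi (Sigma.desc s : FlatMod.freeMod X n ⟶ L)] :
    Curv2.IsGloballyGenerated (CohB1.tensorMod (kernel (Sigma.desc s : FlatMod.freeMod X n ⟶ L)) L) := by
  classical
  let D : FlatMod.freeMod X n ⟶ L := Sigma.desc s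
  let S : ShortComplex X.Modules := ShortComplex.mk (kernel.ι D) D (kernel.condition D)
  have hS : S.ShortExact := { exact := ShortComplex.exact_of_f_is_kernel _ (kernelIsKernel D) }
  have hS' := Tw.shortExact_seq hS hL
  let F' : CohB1.tensorMod (kernel D) L ⟶ CohB1.tensorMod (FlatMod.freeMod X n) L := LimSh.tensorModMap (kernel.ι D) L
  let G' : CohB1.tensorMod (FlatMod.freeMod X n) L ⟶ CohB1.tensorMod L L := LimSh.tensorModMap D L
  haveI : Mono F' := hS'.mono_f
  have hDeps : ∀ i (V : X.Opens), D.app V (eps i V) = sig s i V := fun i V => by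
    show (Sigma.ι (fun _ : Fin n => Coh.structureModule X) i ≫ D).app V (one V) = _
    rw [Sigma.ι_desc]; rfl
  have hzero : ∀ i j, G'.app ⊤ (syz s i j ⊤) = 0 := fun i j => by
    refine eq_of_locally _ _ fun x hx => ?_
    obtain ⟨V, e, hxV, he⟩ := exists_gen hL x
    refine ⟨V, le_top, hxV, ?_⟩
    rw [← app_map_apply, syz_res, map_zero]
    obtain ⟨b, hb⟩ := exists_coeff he (sig s i V)
    obtain ⟨c, hc⟩ := exists_coeff he (sig s j V)
    show (LimSh.tensorModMap D L).app V (syz s i j V) = 0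
    rw [syz, map_sub, Tw.map_tm, Tw.map_tm, hDeps, hDeps, hb, hc, tm_smul_left, tm_smul_left,
      tm_smul_right, tm_smul_right, smul_smul, smul_smul, mul_comm b c, sub_self]
  have hlift : ∀ p : ULift.{u} (Fin n × Fin n), ∃ g : Γ(CohB1.tensorMod (kernel D) L, ⊤),
      F'.app ⊤ g = syz s p.down.1 p.down.2 ⊤ := fun p => exists_app_eq_of_exact hS' ⊤ _ (hzero p.down.1 p.down.2)
  choose g hg using hlift
  refine isGloballyGenerated_of_locally _ g fun W t x hx => ?_
  obtain ⟨V₀, hV₀, e₀, m₀, hxV₀, he₀, hm₀⟩ := Tw.exists_eq_tm hL t hx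
  obtain ⟨V₁, hV₁, hxV₁, a₁, ha₁⟩ := exists_nhds_lift_of_epi D V₀ e₀ x hxV₀
  obtain ⟨c₁, -, hc₁⟩ := exists_coords s V₁ a₁
  choose b₁ hb₁ using fun i => exists_coeff (he₀.res hV₁) (sig s i V₁)
  have hsum : ∑ i, c₁ i * b₁ i = (1 : Γ(X, V₁)) := by
    refine sub_eq_zero.1 (smul_inj (he₀.res hV₁) ?_)
    rw [sub_smul, one_smul, Finset.sum_smul, sub_eq_zero]
    refine Eq.trans ?_ ha₁
    rw [hc₁]
    exact Finset.sum_congr rfl fun i _ => by rw [hb₁ i, smul_smul]
  obtain ⟨k, hk⟩ : ∃ k, IsUnit (X.presheaf.germ V₁ x hxV₁ (b₁ k)) := by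
    by_contra! hne
    refine (IsLocalRing.maximalIdeal.isMaximal (X.presheaf.stalk x)).ne_top ((Ideal.eq_top_iff_one _).2 ?_)
    rw [← map_one (X.presheaf.germ V₁ x hxV₁).hom, ← hsum, map_sum]
    exact Ideal.sum_mem _ fun i _ => by
      rw [map_mul]
      exact Ideal.mul_mem_left _ _ ((IsLocalRing.mem_maximalIdeal _).2 (hne i))
  let V := X.basicOpen (b₁ k)
  have hV : V ≤ V₁ := X.basicOpen_le _
  refine ⟨V, hV.trans (hV₁.trans hV₀), (X.mem_basicOpen _ x hxV₁).2 hk, ?_⟩
  let e := L.presheaf.map (homOfLE (hV.trans hV₁)).op e₀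
  have he : IsGen L e := he₀.res _
  let m := (kernel D).presheaf.map (homOfLE (hV.trans hV₁)).op m₀
  have hm : (CohB1.tensorMod (kernel D) L).presheaf.map (homOfLE (hV.trans (hV₁.trans hV₀))).op t = tm m e := by
    rw [← mres_mres _ hV₀ (hV.trans hV₁), hm₀, tm_res]
  let b : Fin n → Γ(X, V) := fun i => X.presheaf.map (homOfLE hV).op (b₁ i)
  have hb : ∀ i, sig s i V = b i • e := fun i => by
    rw [← sig_res s i hV, hb₁, Scheme.Modules.map_smul, mres_mres]
  have hu : IsUnit (b k) := RingedSpace.isUnit_res_basicOpen X.toRingedSpace (b₁ k)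
  obtain ⟨c, hc, hc'⟩ := exists_coords s V ((kernel.ι D).app V m)
  have hcb : ∑ i, c i * b i = 0 := by
    refine smul_inj he ?_
    rw [Finset.sum_smul]
    have h0 : D.app V ((kernel.ι D).app V m) = 0 :=
      congr($(congrArg (fun k => Scheme.Modules.Hom.app k V) (kernel.condition D)) m)
    refine Eq.trans ?_ (hc'.symm.trans h0)
    exact Finset.sum_congr rfl fun i _ => by rw [hb i, smul_smul]
  rw [hm]
  have key : tm m e = ∑ i, ((hu.unit⁻¹ : Γ(X, V)ˣ) * c i : Γ(X, V)) •
      (CohB1.tensorMod (kernel D) L).presheaf.map (homOfLE (le_top : V ≤ ⊤)).op (g ⟨(i, k)⟩) := by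
    refine injective_app_of_mono' F' V ?_
    rw [map_sum]
    have hgi : ∀ i, F'.app V
        ((CohB1.tensorMod (kernel D) L).presheaf.map (homOfLE (le_top : V ≤ ⊤)).op (g ⟨(i, k)⟩)) =
        b k • tm (eps i V) e - b i • tm (eps k V) e := fun i => by
      rw [app_map_apply, hg, syz_res, syz, hb, hb, tm_smul_right, tm_smul_right]
    simp only [Scheme.Modules.Hom.app_smul, hgi, smul_sub, smul_smul, Finset.sum_sub_distrib]
    show (LimSh.tensorModMap (kernel.ι D) L).app V (tm m e) = _
    rw [Tw.map_tm, hc]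
    have h1 : ∀ i, ((hu.unit⁻¹ : Γ(X, V)ˣ) : Γ(X, V)) * c i * b k = c i := fun i => by
      rw [mul_right_comm, IsUnit.val_inv_mul, one_mul]
    rw [← Finset.sum_smul, show ∑ i, ((hu.unit⁻¹ : Γ(X, V)ˣ) : Γ(X, V)) * c i * b i = 0 by
      simp only [mul_assoc]; rw [← Finset.mul_sum, hcb, mul_zero], zero_smul, sub_zero]
    simp only [h1]
    induction (Finset.univ : Finset (Fin n)) using Finset.induction with
    | empty => simp only [Finset.sum_empty, tm_zero_left]
    | insert i T hi ih => rw [Finset.sum_insert hi, Finset.sum_insert hi, tm_add_left, tm_smul_left, ih]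
  rw [key]
  exact Submodule.sum_mem _ fun i _ => Submodule.smul_mem _ _ (Submodule.subset_span ⟨⟨(i, k)⟩, rfl⟩)

end Groth.Agent.H11KerGG
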